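import Groth.Agent.Lib.DMod.Basic
import Groth.Agent.Lib.DerCat.HProd
import Groth.Agent.Lib.DerivedOX.Exists
import Mathlib.Algebra.Category.ModuleCat.Products
import Mathlib.Algebra.Category.ModuleCat.Abelian
import Mathlib.Algebra.Category.ModuleCat.AB
import Mathlib.Algebra.Homology.HomologicalComplexLimits

/-!
Morphisms out of a direct sum of modules, placed in one degree of `D(A)`.
-/

universe u

open CategoryTheory CategoryTheory.Limits DirectSum

attribute [local instance] HasDerivedCategory.standard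

namespace Groth.Agent.Lib.TorExt36.Coprod

variable {A : Type u} [CommRing A] {J : Type u}

theorem eq_zero_single (F : J → ModuleCat.{u} A) (C : Dual.D A)
    (h : ∀ j, Subsingleton ((DerivedCategory.singleFunctor (ModuleCat.{u} A) 0).obj (F j) ⟶ C))
    (f : (DerivedCategory.singleFunctor (ModuleCat.{u} A) 0).obj (∐ F) ⟶ C) : f = 0 := by
  let S := HomologicalComplex.single (ModuleCat.{u} A) (ComplexShape.up ℤ) (0 : ℤ)
  let K := fun j => S.obj (F j)
  let φ := sigmaComparison S F
  haveI : IsIso φ := inferInstance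
  let e := DerivedCategory.quotientCompQhIso (ModuleCat.{u} A)
  let adj := Adjunction.ofIsLeftAdjoint (DerivedCategory.Qh (C := ModuleCat.{u} A))
  let g : DerivedCategory.Qh.obj ((HomotopyCategory.quotient _ _).obj (∐ K)) ⟶ C :=
    e.hom.app _ ≫ DerivedCategory.Q.map φ ≫
      (DerivedCategory.singleFunctorIsoCompQ (ModuleCat.{u} A) 0).inv.app (∐ F) ≫ f
  have h0 : ∀ X, adj.homEquiv X C 0 = 0 := fun X => by
    rw [Adjunction.homEquiv_unit, Functor.map_zero, comp_zero]
  have hg : adj.homEquiv _ _ g = 0 := by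
    refine Cofan.IsColimit.hom_ext (DerCat.HProd.isColimitCofan K) _ _ fun j => ?_
    rw [comp_zero]
    refine (adj.homEquiv_naturality_left _ _).symm.trans ?_
    have h1 : DerivedCategory.Qh.map ((HomotopyCategory.quotient _ _).map (Sigma.ι K j)) ≫ g =
        e.hom.app _ ≫ (DerivedCategory.singleFunctorIsoCompQ (ModuleCat.{u} A) 0).inv.app (F j) ≫
          (DerivedCategory.singleFunctor (ModuleCat.{u} A) 0).map (Sigma.ι F j) ≫ f := by
      have hn := e.hom.naturality (Sigma.ι K j)
      refine ((Category.assoc _ _ _).symm.trans (congrArg (· ≫ _) hn)).trans ?_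
      rw [Category.assoc, ← Functor.map_comp_assoc]
      have hc : Sigma.ι K j ≫ φ = S.map (Sigma.ι F j) := ι_comp_sigmaComparison S F j
      rw [hc]
      refine congrArg (e.hom.app _ ≫ ·) ?_
      exact (Category.assoc _ _ _).symm.trans ((congrArg (· ≫ f)
        ((DerivedCategory.singleFunctorIsoCompQ (ModuleCat.{u} A) 0).inv.naturality
          (Sigma.ι F j))).trans (Category.assoc _ _ _))
    refine (congrArg (adj.homEquiv _ _) h1).trans ?_
    rw [@Subsingleton.elim _ (h j) ((DerivedCategory.singleFunctor (ModuleCat.{u} A) 0).map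
        (Sigma.ι F j) ≫ f) 0, comp_zero, comp_zero]
    exact h0 _
  have hg0 : g = 0 := (adj.homEquiv _ _).injective (by
    rw [hg, Adjunction.homEquiv_unit, Functor.map_zero, comp_zero])
  exact zero_of_epi_comp ((DerivedCategory.singleFunctorIsoCompQ (ModuleCat.{u} A) 0).inv.app _)
    (zero_of_epi_comp (DerivedCategory.Q.map φ) (zero_of_epi_comp (e.hom.app _) hg0))

theorem subsingleton_hom_directSum (M : J → Type u) [∀ j, AddCommGroup (M j)] [∀ j, Module A (M j)]
    (C : Dual.D A) (m : ℤ) (h : ∀ j, Subsingleton ((Dual.inD A (M j))⟦m⟧ ⟶ C)) :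
    Subsingleton ((Dual.inD A (⨁ j, M j))⟦m⟧ ⟶ C) := by
  classical
  let C' := C⟦-m⟧
  have key : ∀ X : Dual.D A, Nonempty ((X⟦m⟧ ⟶ C) ≃ (X ⟶ C')) := fun X =>
    ⟨(shiftEquiv (Dual.D A) m).toAdjunction.homEquiv X C⟩
  have h' : ∀ j, Subsingleton (Dual.inD A (M j) ⟶ C') := fun j =>
    haveI := h j
    (key _).some.symm.subsingleton
  let F : J → ModuleCat.{u} A := fun j => ModuleCat.of A (M j)
  let e : ∐ F ≅ ModuleCat.of A (⨁ j, M j) := ModuleCat.coprodIsoDirectSum F
  have hz : Subsingleton (Dual.inD A (⨁ j, M j) ⟶ C') := subsingleton_of_forall_eq 0 fun f => by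
    have := eq_zero_single F C' h'
      ((DerivedCategory.singleFunctor (ModuleCat.{u} A) 0).map e.hom ≫ f)
    exact zero_of_epi_comp _ this
  exact (key _).some.subsingleton

end Groth.Agent.Lib.TorExt36.Coprod
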