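import Mathlib.RingTheory.Flat.Basic
import Mathlib.Algebra.Module.Torsion.Basic
import Mathlib.RingTheory.Ideal.Quotient.Operations
import Mathlib.RingTheory.Finiteness.Ideal

/-!
Modules killed by a power of an ideal `I` do not change under a flat base change `A → B` with
`A/I = B/IB`.
-/

universe u v

open scoped TensorProduct

namespace Groth.Agent.Lib.TorExt36.Descent

variable {A B : Type u} [CommRing A] [CommRing B] [Algebra A B] {I : Ideal A}
  (hs : Function.Surjective ((Ideal.Quotient.mk (I.map (algebraMap A B))).comp (algebraMap A B)))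
  (hk : RingHom.ker ((Ideal.Quotient.mk (I.map (algebraMap A B))).comp (algebraMap A B)) = I)

include hs hk in
theorem exists_retraction : ∃ π : B →ₐ[A] A ⧸ I, ∀ b : B, ∃ a : A,
    π b = Ideal.Quotient.mk I a ∧ b - algebraMap A B a ∈ I.map (algebraMap A B) := by
  let e : (A ⧸ I) ≃+* B ⧸ I.map (algebraMap A B) :=
    (Ideal.quotEquivOfEq hk.symm).trans (RingHom.quotientKerEquivOfSurjective hs)
  have he : ∀ a, e (Ideal.Quotient.mk I a) = Ideal.Quotient.mk _ (algebraMap A B a) := fun a => rfl
  refine ⟨⟨e.symm.toRingHom.comp (Ideal.Quotient.mk _), fun a => e.injective ?_⟩, fun b => ?_⟩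
  · simp [he]
  · obtain ⟨a, ha⟩ := hs (b : B)
    refine ⟨a, e.injective ?_, Ideal.Quotient.eq.1 ha.symm⟩
    simp only [he]
    simpa using ha.symm

include hs hk in
theorem bijective_of_killed (H : Type v) [AddCommGroup H] [Module A H]
    (h : ∀ a ∈ I, ∀ x : H, a • x = 0) :
    Function.Bijective (TensorProduct.mk A B H 1) := by
  obtain ⟨π, hπ⟩ := exists_retraction hs hk
  have hT : Module.IsTorsionBySet A H (I : Set A) := fun x a => h a.1 a.2 x
  letI : Module (A ⧸ I) H := hT.module
  haveI : IsScalarTower A (A ⧸ I) H := hT.isScalarTower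
  let r : B ⊗[A] H →ₗ[A] H := TensorProduct.lift
    (LinearMap.mk₂ A (fun (b : B) (x : H) => π b • x) (fun _ _ _ => by rw [map_add, add_smul])
      (fun a b x => by rw [map_smul, smul_assoc]) (fun _ _ _ => smul_add _ _ _)
      (fun a b x => smul_comm (π b) a x))
  refine ⟨fun x y hxy => ?_, fun z => ?_⟩
  · simpa [r] using congrArg r hxy
  · induction z using TensorProduct.induction_on with
    | zero => exact ⟨0, map_zero _⟩
    | add x y hx hy =>
      obtain ⟨x', rfl⟩ := hx
      obtain ⟨y', rfl⟩ := hy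
      exact ⟨x' + y', map_add _ _ _⟩
    | tmul b x =>
      obtain ⟨a, -, hb⟩ := hπ b
      refine ⟨a • x, ?_⟩
      have h0 : ∀ c ∈ I.map (algebraMap A B), c ⊗ₜ[A] x = 0 := by
        intro c hc
        induction hc using Submodule.span_induction with
        | mem _ hy =>
          obtain ⟨i, hi, rfl⟩ := hy
          rw [Algebra.algebraMap_eq_smul_one, TensorProduct.smul_tmul, h i hi, TensorProduct.tmul_zero]
        | zero => exact TensorProduct.zero_tmul _ _
        | add p q _ _ hp hq => rw [TensorProduct.add_tmul, hp, hq, add_zero]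
        | smul d p _ hp =>
          rw [show (d • p : B) ⊗ₜ[A] x = d • (p ⊗ₜ[A] x) from rfl, hp, smul_zero]
      have := h0 _ hb
      rw [TensorProduct.sub_tmul, sub_eq_zero, Algebra.algebraMap_eq_smul_one,
        TensorProduct.smul_tmul] at this
      exact this.symm

include hs hk in
/-- The same for modules killed by a power of `I`. -/
theorem bijective_of_pow_killed [Module.Flat A B] (n : ℕ) :
    ∀ (H : Type v) [AddCommGroup H] [Module A H], (∀ a ∈ I ^ n, ∀ x : H, a • x = 0) →
      Function.Bijective (TensorProduct.mk A B H 1) := by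
  induction n with
  | zero =>
    intro H _ _ h
    exact bijective_of_killed hs hk H fun a _ x => h a (by simp) x
  | succ n ih =>
    intro H _ _ h
    let N : Submodule A H := I • ⊤
    have hN : ∀ a ∈ I ^ n, ∀ x : N, a • x = 0 := by
      rintro a ha ⟨x, hx⟩
      ext
      show a • x = 0
      refine Submodule.smul_induction_on (p := fun x => a • x = 0) hx (fun i hi y _ => ?_)
        fun p q hp hq => by rw [smul_add, hp, hq, add_zero]
      rw [smul_smul]
      exact h _ (pow_succ I n ▸ Ideal.mul_mem_mul ha hi) y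
    have hQ : ∀ a ∈ I, ∀ x : H ⧸ N, a • x = 0 := by
      intro a ha x
      obtain ⟨y, rfl⟩ := Submodule.Quotient.mk_surjective N x
      rw [← Submodule.Quotient.mk_smul, Submodule.Quotient.mk_eq_zero]
      exact Submodule.smul_mem_smul ha Submodule.mem_top
    have h1 := ih N hN
    have h2 := bijective_of_killed hs hk _ hQ
    have hnat : ∀ {P Q : Type v} [AddCommGroup P] [AddCommGroup Q] [Module A P] [Module A Q]
        (f : P →ₗ[A] Q) (x : P), f.lTensor B ((1 : B) ⊗ₜ x) = (1 : B) ⊗ₜ f x := fun f x => rfl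
    refine ⟨?_, fun z => ?_⟩
    · rw [injective_iff_map_eq_zero]
      intro x hx
      have hx' : (1 : B) ⊗ₜ[A] x = 0 := hx
      have hm : N.mkQ x = 0 := h2.1 <| by
        show (1 : B) ⊗ₜ[A] N.mkQ x = (1 : B) ⊗ₜ[A] 0
        rw [← hnat, hx', map_zero, TensorProduct.tmul_zero]
      obtain ⟨w, rfl⟩ : ∃ w : N, N.subtype w = x :=
        ⟨⟨x, (Submodule.Quotient.mk_eq_zero N).1 hm⟩, rfl⟩
      have hw : (1 : B) ⊗ₜ[A] w = 0 :=
        (Module.Flat.lTensor_preserves_injective_linearMap N.subtype N.injective_subtype)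
          (by rw [hnat, hx', map_zero])
      rw [h1.1 (hw.trans (TensorProduct.tmul_zero _ _).symm), map_zero]
    · obtain ⟨q, hq⟩ := h2.2 (N.mkQ.lTensor B z)
      obtain ⟨x, rfl⟩ := Submodule.Quotient.mk_surjective N q
      have hz : N.mkQ.lTensor B (z - (1 : B) ⊗ₜ x) = 0 := by
        rw [map_sub, hnat, sub_eq_zero]
        exact hq.symm
      obtain ⟨w, hw⟩ := (Module.Flat.lTensor_exact B (LinearMap.exact_subtype_mkQ N) _).1 hz
      obtain ⟨w', rfl⟩ := h1.2 w
      refine ⟨x + w', ?_⟩
      rw [map_add]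
      change (1 : B) ⊗ₜ[A] x + (1 : B) ⊗ₜ[A] (w' : H) = z
      exact eq_add_of_sub_eq' (hw.symm.trans (hnat _ _)) |>.symm

/-- An ideal killing each generator up to a power kills the module up to a power. -/
theorem exists_pow_le (hI : I.FG) {J : Ideal A} (s : Set A) (hs' : Ideal.span s = I)
    (h : ∀ x ∈ s, ∃ p : ℕ, x ^ p ∈ J) : ∃ n, I ^ n ≤ J :=
  Ideal.exists_pow_le_of_le_radical_of_fg (hs' ▸ (Ideal.span_le.2 h : Ideal.span s ≤ J.radical)) hI

end Groth.Agent.Lib.TorExt36.Descent
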