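import Groth.Agent.Lib.DMod.FlatHom
import Groth.Agent.Lib.DMod.Cones
import Groth.Agent.Lib.TorExt36.Descent

/-!
Iterated cones of multiplications on `A[0]` ("Koszul objects") in `D(A)`.
-/

universe u

open CategoryTheory CategoryTheory.Limits Pretriangulated TensorProduct
open Groth.Agent.Lib.DMod.Basic Groth.Agent.Lib.DMod.Cones Groth.Agent.Lib.DMod.FlatHom

attribute [local instance] HasDerivedCategory.standard

namespace Groth.Agent.Lib.TorExt36.Koszul

variable {A : Type u} [CommRing A]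

section Cone

variable {X X' : Dual.D A} {x : A} {g : X ⟶ X'} {h : X' ⟶ X⟦(1 : ℤ)⟧}
  (hT : Triangle.mk (x • 𝟙 X) g h ∈ distTriang (Dual.D A))
include hT

theorem smul_id_cone {a : A} (hg : a • g = 0) (hh : a • h = 0) : (a * a) • 𝟙 X' = 0 := by
  obtain ⟨s, hs⟩ := Triangle.yoneda_exact₃ _ hT (a • 𝟙 X') (by
    show g ≫ (a • 𝟙 X') = 0
    rw [Linear.comp_smul, Category.comp_id, hg])
  obtain ⟨t, ht⟩ : ∃ t : X⟦(1 : ℤ)⟧ ⟶ X', a • 𝟙 X' = h ≫ t := ⟨s, hs⟩
  rw [mul_smul, ht, ← Linear.smul_comp, hh, zero_comp]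

theorem smul_g : x • g = 0 := by
  have := comp_distTriang_mor_zero₁₂ _ hT
  change (x • 𝟙 X) ≫ g = 0 at this
  rwa [Linear.smul_comp, Category.id_comp] at this

theorem smul_h : x • h = 0 := by
  have := comp_distTriang_mor_zero₃₁ _ hT
  change h ≫ (x • 𝟙 X)⟦(1 : ℤ)⟧' = 0 at this
  rwa [Functor.map_smul, CategoryTheory.Functor.map_id, Linear.comp_smul, Category.comp_id] at this

theorem smul_id_of_smul_id {a : A} (ha : a • 𝟙 X = 0) : (a * a) • 𝟙 X' = 0 := by
  refine smul_id_cone hT ?_ ?_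
  · rw [show a • g = (a • 𝟙 X) ≫ g by simp, ha, zero_comp]
  · rw [show a • h = h ≫ (a • 𝟙 X)⟦(1 : ℤ)⟧' by
      rw [Functor.map_smul, CategoryTheory.Functor.map_id, Linear.comp_smul, Category.comp_id],
      ha, Functor.map_zero, comp_zero]

end Cone

/-- `Hom` groups are killed by anything killing the identity of the source. -/
theorem smul_hom_eq_zero {X Y : Dual.D A} {a : A} (ha : a • 𝟙 X = 0) (f : X ⟶ Y) : a • f = 0 := by
  rw [show a • f = (a • 𝟙 X) ≫ f by simp, ha, zero_comp]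

/-- Cohomology is killed by anything killing the identity. -/
theorem smul_HD_eq_zero {X : Dual.D A} {a : A} (ha : a • 𝟙 X = 0) (i : ℤ) (m : Dual.HD A X i) :
    a • m = 0 := by
  rw [← mapHD_smul_id X a i m, ha]
  simp [mapHD]

variable (B : Type u) [CommRing B] [Algebra A B] [Module.Flat A B]

theorem exists_cones (l : List A) :
    ∃ K : Dual.D A, (∀ i : ℤ, 0 < i → Subsingleton (Dual.HD A K i)) ∧
      (∀ x ∈ l, ∃ p : ℕ, (x ^ p) • 𝟙 K = 0) ∧ (∀ Y, Bij B K Y) ∧
      ∃ π : A →ₗ[A] Dual.HD A K 0, Function.Surjective π ∧ LinearMap.ker π = Ideal.ofList l := by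
  induction l with
  | nil =>
    exact ⟨Dual.inD A A, fun i hi => subsingleton_HD_inD A hi.ne', by simp, bij_unit,
      (HDinD (A := A) A).symm.toLinearMap, (HDinD (A := A) A).symm.surjective, by
        rw [LinearEquiv.ker, Ideal.ofList_nil]⟩
  | cons x l ih =>
    obtain ⟨K, hle, hkill, hbij, π, hπ, hker⟩ := ih
    obtain ⟨K', g, h, hT⟩ := exists_smul_triangle K x
    refine ⟨K', fun i hi => subsingleton_HD_step hT i (hle i hi) (hle _ (by lia)), ?_, fun Y => ?_,
      ?_⟩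
    · intro y hy
      rcases List.mem_cons.1 hy with rfl | hy
      · exact ⟨2, by rw [pow_two]; exact smul_id_cone hT (smul_g hT) (smul_h hT)⟩
      · obtain ⟨p, hp⟩ := hkill y hy
        exact ⟨p + p, by rw [pow_add]; exact smul_id_of_smul_id hT hp⟩
    · exact bij₃ _ hT Y ((hbij _).shift_left 1) ((hbij _).shift_left 1) (hbij Y) (hbij Y)
    · obtain ⟨δ, e₂, e₃, -⟩ := exists_coneδ hT 0
      have hsurj : Function.Surjective (mapHD g 0) := fun m =>
        (e₃ m).1 (@Subsingleton.elim _ (hle _ (by lia)) _ _)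
      refine ⟨(mapHD g 0).comp π, hsurj.comp hπ, ?_⟩
      ext a
      rw [LinearMap.mem_ker, LinearMap.comp_apply, Ideal.ofList_cons]
      constructor
      · intro ha
        obtain ⟨n, hn⟩ := (e₂ _).1 ha
        obtain ⟨c, rfl⟩ := hπ n
        rw [mapHD_smul_id, ← map_smul] at hn
        have : a - x • c ∈ Ideal.ofList l := by
          rw [← hker, LinearMap.mem_ker, map_sub, hn, sub_self]
        rw [← sub_add_cancel a (x • c)]
        refine add_mem (Submodule.mem_sup_right this) (Submodule.mem_sup_left ?_)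
        exact Ideal.mem_span_singleton'.2 ⟨c, mul_comm c x⟩
      · intro ha
        obtain ⟨y, hy, z, hz, rfl⟩ := Submodule.mem_sup.1 ha
        obtain ⟨c, rfl⟩ := Ideal.mem_span_singleton'.1 hy
        rw [← hker, LinearMap.mem_ker] at hz
        rw [map_add, hz, add_zero, mul_comm, ← smul_eq_mul, map_smul, ← mapHD_smul_id]
        exact e₂.apply_apply_eq_zero _

/-- For a finitely generated ideal `I`: a perfect object, killed by a power of `I`, in degrees
`≤ 0`, whose top cohomology is `A/I`. -/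
theorem exists_koszul (I : Ideal A) (hI : I.FG) :
    ∃ (K : Dual.D A) (n : ℕ), (∀ i : ℤ, 0 < i → Subsingleton (Dual.HD A K i)) ∧
      (∀ a ∈ I ^ n, a • 𝟙 K = 0) ∧ (∀ Y, Bij B K Y) ∧
      Nonempty ((A ⧸ I) ≃ₗ[A] Dual.HD A K 0) := by
  obtain ⟨S, hS⟩ := hI
  have hspan : Ideal.span (↑S : Set A) = I := hS
  obtain ⟨K, hle, hkill, hbij, π, hπ, hker⟩ := exists_cones B S.toList
  obtain ⟨n, hn⟩ := Descent.exists_pow_le ⟨S, hS⟩
    (J := Ideal.torsionOf A (K ⟶ K) (𝟙 K)) (↑S : Set A) hspan fun x hx => by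
      obtain ⟨p, hp⟩ := hkill x (by simpa using hx)
      exact ⟨p, (Ideal.mem_torsionOf_iff _ _).2 hp⟩
  refine ⟨K, n, hle, fun a ha => (Ideal.mem_torsionOf_iff _ _).1 (hn ha), hbij,
    ⟨(Submodule.quotEquivOfEq _ _ ?_).trans (π.quotKerEquivOfSurjective hπ)⟩⟩
  rw [hker, Ideal.ofList, ← hspan]
  congr 1
  ext
  simp

end Groth.Agent.Lib.TorExt36.Koszul
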