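import Groth.Agent.Lib.TorExt36.Koszul
import Groth.Agent.Lib.TorExt36.Coprod
import Groth.Agent.Lib.DR.Basic

/-!
For a flat `A → B` with `A/I = B/IB`, morphisms in `D(A)` from a shift of an `I`-power torsion module to
`N` and to `B ⊗ N` agree.
-/

universe u

open CategoryTheory CategoryTheory.Limits Pretriangulated TensorProduct DirectSum
open Groth.Agent.Lib.DMod.Basic Groth.Agent.Lib.DMod.FlatHom

attribute [local instance] HasDerivedCategory.standard

namespace Groth.Agent.Lib.TorExt36.Vanish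

variable {A B : Type u} [CommRing A] [CommRing B] [Algebra A B] [Module.Flat A B] {I : Ideal A}
  (hs : Function.Surjective ((Ideal.Quotient.mk (I.map (algebraMap A B))).comp (algebraMap A B)))
  (hk : RingHom.ker ((Ideal.Quotient.mk (I.map (algebraMap A B))).comp (algebraMap A B)) = I)

/-- The unit of flat base change and restriction. -/
noncomputable abbrev η (Y : Dual.D A) :
    Y ⟶ (DRing.restrictD (algebraMap A B)).obj ((L A B).obj Y) :=
  (adj A B).unit.app Y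

theorem comp_η {X Y : Dual.D A} (f : X ⟶ Y) :
    f ≫ η (B := B) Y = (adj A B).homEquiv _ _ ((L A B).map f) :=
  ((adj A B).unit.naturality f).trans ((adj A B).homEquiv_unit _ _ _).symm

include hs hk in
theorem bijective_comp_η {K : Dual.D A} {n : ℕ} (hn : ∀ a ∈ I ^ n, a • 𝟙 K = 0)
    (hbij : ∀ Y, Bij B K Y) (Y : Dual.D A) (k : ℤ) :
    Function.Bijective fun f : K⟦k⟧ ⟶ Y => f ≫ η (B := B) Y := by
  have h1 := Descent.bijective_of_pow_killed hs hk n (K⟦k⟧ ⟶ Y) fun a ha f =>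
    Koszul.smul_hom_eq_zero (DMod.HomSupp.smul_id_shift (hn a ha) k) f
  have h2 : Bij B (K⟦k⟧) Y := (hbij _).shift_left k
  have h3 := (((adj A B).homEquiv _ _).bijective.comp h2).comp h1
  refine bij_congr h3 fun f => ?_
  show (adj A B).homEquiv _ _ (Φ B (K⟦k⟧) Y ((1 : B) ⊗ₜ f)) = f ≫ η (B := B) Y
  rw [Φ_tmul, one_smul, comp_η]

section Cone

variable {Y Z C : Dual.D A} {e : Y ⟶ Z} {π : Z ⟶ C} {δ : C ⟶ Y⟦(1 : ℤ)⟧}
  (hT : Triangle.mk e π δ ∈ distTriang (Dual.D A))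
include hT

theorem subsingleton_of_bij (K : Dual.D A)
    (h : ∀ k : ℤ, Function.Bijective fun f : K⟦k⟧ ⟶ Y => f ≫ e) (k : ℤ) :
    Subsingleton (K⟦k⟧ ⟶ C) := by
  refine subsingleton_of_forall_eq 0 fun f => ?_
  let ι : K⟦k⟧ ≅ (K⟦k - 1⟧)⟦(1 : ℤ)⟧ := (shiftFunctorAdd' (Dual.D A) (k - 1) 1 k (by lia)).app K
  obtain ⟨f₀, hf₀⟩ := (shiftFunctor (Dual.D A) (1 : ℤ)).map_surjective (ι.inv ≫ f ≫ δ)
  have h₀ : f₀ ≫ e = 0 := by
    apply (shiftFunctor (Dual.D A) (1 : ℤ)).map_injective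
    rw [Functor.map_comp, hf₀, Category.assoc, Category.assoc]
    have : δ ≫ e⟦(1 : ℤ)⟧' = 0 := comp_distTriang_mor_zero₃₁ _ hT
    rw [this, comp_zero, comp_zero, Functor.map_zero]
  have : f₀ = 0 := (h (k - 1)).1 (by simpa using h₀)
  rw [this, Functor.map_zero] at hf₀
  have hδ : f ≫ δ = 0 := zero_of_epi_comp ι.inv hf₀.symm
  obtain ⟨g, hg⟩ := Triangle.coyoneda_exact₃ _ hT f hδ
  obtain ⟨g₀, hg₀⟩ := (h k).2 g
  have : e ≫ π = 0 := comp_distTriang_mor_zero₁₂ _ hT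
  refine hg.trans ?_
  show g ≫ π = 0
  rw [← hg₀]
  show (g₀ ≫ e) ≫ π = 0
  rw [Category.assoc, this, comp_zero]

theorem bij_of_subsingleton (X : Dual.D A) (k : ℤ) (h₀ : Subsingleton (X⟦k⟧ ⟶ C))
    (h₁ : Subsingleton (X⟦k + 1⟧ ⟶ C)) : Function.Bijective fun f : X⟦k⟧ ⟶ Y => f ≫ e := by
  refine ⟨?_, fun g => ?_⟩
  · intro f f' hff
    rw [← sub_eq_zero]
    have h : (f - f') ≫ e = 0 := by rw [Preadditive.sub_comp, sub_eq_zero]; exact hff
    obtain ⟨g, hg⟩ := Triangle.coyoneda_exact₂ _ (inv_rot_of_distTriang _ hT) (f - f') h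
    have : Subsingleton (X⟦k⟧ ⟶ C⟦(-1 : ℤ)⟧) :=
      (Iso.homCongr (Iso.refl (X⟦k⟧)) (Iso.refl (C⟦(-1 : ℤ)⟧))).trans
        ((homShiftAdj X C k (-1) (-(k + 1)) (by lia)).trans (DMod.Cones.homNeg X C (-(k + 1))).symm
          |>.toEquiv.trans (Iso.homCongr (eqToIso (by rw [neg_neg])) (Iso.refl C))) |>.subsingleton
    have hg0 : g = 0 := @Subsingleton.elim _ this g 0
    exact hg.trans ((congrArg (· ≫ _) hg0).trans zero_comp)
  · obtain ⟨f, hf⟩ := Triangle.coyoneda_exact₂ _ hT g (@Subsingleton.elim _ h₀ _ _)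
    exact ⟨f, hf.symm⟩

end Cone

/-- `Hom(-, C)` vanishes on all translates of torsion modules in degrees `≤ -m`. -/
def Q (I : Ideal A) (C : Dual.D A) (n : ℤ) : Prop :=
  ∀ (M : Type u) [AddCommGroup M] [Module A M], LocCoh.IsPowerTorsion I M →
    Subsingleton ((Dual.inD A M)⟦n⟧ ⟶ C)

section Induction

variable {C : Dual.D A} [hC : C.IsGE (-1)] {I : Ideal A}

omit [Algebra A B] in
theorem subsingleton_of_isLE {m : ℤ} (hQ : ∀ n, m ≤ n → Q I C n) :
    ∀ (d : ℕ) (e : ℤ), e + 1 ≤ d - 1 → e ≤ -m → ∀ X : Dual.D A, X.IsLE e →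
      (∀ i, LocCoh.IsPowerTorsion I (Dual.HD A X i)) → Subsingleton (X ⟶ C) := by
  intro d
  induction d with
  | zero =>
    intro e hd _ X hX _
    exact subsingleton_of_forall_eq 0 fun f => DerivedCategory.TStructure.t.zero f e (-1) (by lia)
  | succ d ih =>
    intro e hd he X hX htor
    obtain ⟨T, hT, hT₂, hT₁, hT₃, h₁, h₃⟩ := DMod.Devissage.exists_trunc X (e - 1)
    subst hT₂
    refine subsingleton_hom_from_obj₂ hT C (ih (e - 1) (by lia) (by lia) _ hT₁ fun i => ?_) ?_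
    · by_cases hi : i ≤ e - 1
      · obtain ⟨ψ⟩ := h₁ i hi
        intro x
        obtain ⟨n, hn⟩ := htor i (ψ x)
        exact ⟨n, fun a ha => ψ.injective (by rw [map_smul, hn a ha, map_zero])⟩
      · have := subsingleton_HD_of_isLE T.obj₁ (e - 1) (i := i) (by lia)
        exact fun x => ⟨0, fun a _ => Subsingleton.elim _ _⟩
    · have hge : T.obj₃.IsGE e := by rwa [show e - 1 + 1 = e by lia] at hT₃
      have hle : T.obj₃.IsLE e := (isLE_iff _ e).2 fun i hi => by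
        obtain ⟨ψ⟩ := h₃ i (by lia)
        have := subsingleton_HD_of_isLE T.obj₂ e hi
        exact ψ.symm.toEquiv.subsingleton
      obtain ⟨ι⟩ := DMod.Devissage.exists_iso_inD_shift T.obj₃ e
      obtain ⟨ψ⟩ := h₃ e (by lia)
      have := hQ (-e) (by lia) (Dual.HD A T.obj₃ e) fun x => by
        obtain ⟨n, hn⟩ := htor e (ψ.symm x)
        exact ⟨n, fun a ha => ψ.symm.injective (by rw [map_smul, hn a ha, map_zero])⟩
      exact (Iso.homCongr ι (Iso.refl C)).subsingleton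

end Induction

theorem isPowerTorsion_directSum {I : Ideal A} {J : Type u} (M : J → Type u)
    [∀ j, AddCommGroup (M j)] [∀ j, Module A (M j)] (h : ∀ j, LocCoh.IsPowerTorsion I (M j)) :
    LocCoh.IsPowerTorsion I (⨁ j, M j) := by
  classical
  intro x
  induction x using DirectSum.induction_on with
  | zero => exact ⟨0, fun a _ => smul_zero a⟩
  | of j m =>
    obtain ⟨n, hn⟩ := h j m
    exact ⟨n, fun a ha => by rw [← DirectSum.lof_eq_of A, ← map_smul, hn a ha, map_zero]⟩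
  | add x y hx hy =>
    obtain ⟨n, hn⟩ := hx
    obtain ⟨k, hk⟩ := hy
    exact ⟨n + k, fun a ha => by
      rw [smul_add, hn a (Ideal.pow_le_pow_right (Nat.le_add_right n k) ha),
        hk a (Ideal.pow_le_pow_right (Nat.le_add_left k n) ha), add_zero]⟩

theorem Q_step (hI : I.FG) {C : Dual.D A} [C.IsGE (-1)]
    (hK : ∀ (K : Dual.D A) (n : ℕ), (∀ a ∈ I ^ n, a • 𝟙 K = 0) → (∀ Y, Bij B K Y) →
      ∀ k : ℤ, Subsingleton (K⟦k⟧ ⟶ C))
    (m : ℤ) (hQ : ∀ n, m + 1 ≤ n → Q I C n) : Q I C m := by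
  intro M _ _ hM
  classical
  choose k hk using hM
  let F : M → Type u := fun x => A ⧸ I ^ k x
  have hFt : ∀ x, LocCoh.IsPowerTorsion I (F x) := fun x y => by
    refine ⟨k x, fun a ha => ?_⟩
    obtain ⟨y, rfl⟩ := Ideal.Quotient.mk_surjective y
    exact (Ideal.Quotient.eq_zero_iff_mem).2 (Ideal.mul_mem_right y _ ha)
  have hF : ∀ x, Subsingleton ((Dual.inD A (F x))⟦m⟧ ⟶ C) := fun x => by
    obtain ⟨K, n, hle, hkill, hbij, ⟨π⟩⟩ := Koszul.exists_koszul B (I ^ k x) hI.pow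
    have hkill' : ∀ a ∈ I ^ (k x * n), a • 𝟙 K = 0 := fun a ha =>
      hkill a (by rwa [← pow_mul])
    have htorK : ∀ i, LocCoh.IsPowerTorsion I (Dual.HD A K i) := fun i y =>
      ⟨k x * n, fun a ha => Koszul.smul_HD_eq_zero (hkill' a ha) i y⟩
    obtain ⟨T, hT, hT₂, hT₁, hT₃, h₁, h₃⟩ := DMod.Devissage.exists_trunc K (-1)
    subst hT₂
    have hge : T.obj₃.IsGE 0 := by rwa [show (-1 : ℤ) + 1 = 0 by lia] at hT₃
    have hle' : T.obj₃.IsLE 0 := (isLE_iff _ 0).2 fun i hi => by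
      obtain ⟨ψ⟩ := h₃ i (by lia)
      have := hle i hi
      exact ψ.symm.toEquiv.subsingleton
    obtain ⟨ι⟩ := DMod.Devissage.exists_iso_inD_shift T.obj₃ 0
    obtain ⟨ψ⟩ := h₃ 0 (by lia)
    let ι' : Dual.inD A (F x) ≅ T.obj₃ :=
      (DerivedCategory.singleFunctor (ModuleCat.{u} A) 0).mapIso (π.trans ψ).toModuleIso ≪≫
        ((shiftFunctorZero (Dual.D A) ℤ).app _).symm ≪≫
        eqToIso (by rw [neg_zero]; rfl) ≪≫ ι.symm
    have hτ : Subsingleton ((T.obj₁⟦(1 : ℤ)⟧)⟦m⟧ ⟶ C) := by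
      haveI : T.obj₁.IsLE (-1) := hT₁
      haveI : (T.obj₁⟦(1 : ℤ)⟧).IsLE (-2) :=
        DerivedCategory.TStructure.t.isLE_shift T.obj₁ (-1) 1 (-2) (by lia)
      haveI h2 : ((T.obj₁⟦(1 : ℤ)⟧)⟦m⟧).IsLE (-2 - m) :=
        DerivedCategory.TStructure.t.isLE_shift (T.obj₁⟦(1 : ℤ)⟧) (-2) m (-2 - m) (by lia)
      refine subsingleton_of_isLE hQ (-2 - m + 2).toNat (-2 - m) (by lia) (by lia) _ h2 fun i => ?_
      let ψ₂ := (HDShift (T.obj₁⟦(1 : ℤ)⟧) m i (m + i) rfl).trans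
        (HDShift T.obj₁ 1 (m + i) (1 + (m + i)) rfl)
      by_cases hi : 1 + (m + i) ≤ -1
      · obtain ⟨ψ₁⟩ := h₁ _ hi
        intro y
        obtain ⟨p, hp⟩ := htorK _ (ψ₁ (ψ₂ y))
        exact ⟨p, fun a ha => ψ₂.injective (ψ₁.injective (by
          rw [map_smul, map_smul, hp a ha, map_zero, map_zero]))⟩
      · have := subsingleton_HD_of_isLE T.obj₁ (-1) (i := 1 + (m + i)) (by lia)
        exact fun y => ⟨0, fun a _ => ψ₂.injective (Subsingleton.elim _ _)⟩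
    have h := subsingleton_hom_from_obj₂
      (Triangle.shift_distinguished _ (rot_of_distTriang _ hT) m) C
      (hK T.obj₂ (k x * n) hkill' hbij m) hτ
    haveI : Subsingleton (T.obj₃⟦m⟧ ⟶ C) := h
    exact (Iso.homCongr ((shiftFunctor (Dual.D A) m).mapIso ι') (Iso.refl C)).subsingleton
  let p : (⨁ x, F x) →ₗ[A] M := DirectSum.toModule A M M fun x =>
    Submodule.liftQ (I ^ k x) (LinearMap.toSpanSingleton A M x) fun a ha => hk x a ha
  have hp : Function.Surjective p := fun x =>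
    ⟨DirectSum.lof A M F x (Submodule.Quotient.mk 1), (DirectSum.toModule_lof A (M := F) x _).trans (one_smul A x)⟩
  obtain ⟨T, hT, h₁, h₂, h₃⟩ := DMod.HomSupp.exists_triangle_of_shortExact (M₁ := ↥(LinearMap.ker p))
    (M₂ := ⨁ x, F x) (M₃ := M) (LinearMap.ker p).subtype p (Submodule.injective_subtype _) hp
    (LinearMap.exact_subtype_ker_map p)
  have hFF : Subsingleton ((Dual.inD A (⨁ x, F x))⟦m⟧ ⟶ C) :=
    Coprod.subsingleton_hom_directSum F C m hF
  have hker : Subsingleton ((Dual.inD A (LinearMap.ker p))⟦m + 1⟧ ⟶ C) :=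
    hQ (m + 1) le_rfl _ fun y => by
      obtain ⟨n, hn⟩ := isPowerTorsion_directSum F hFt (y : ⨁ x, F x)
      exact ⟨n, fun a ha => Subtype.ext (hn a ha)⟩
  have h := subsingleton_hom_from_obj₂
    (Triangle.shift_distinguished _ (rot_of_distTriang _ hT) m) C
    (show Subsingleton (T.obj₂⟦m⟧ ⟶ C) by rwa [h₂])
    (show Subsingleton ((T.obj₁⟦(1 : ℤ)⟧)⟦m⟧ ⟶ C) by
      rw [h₁]
      exact (Iso.homCongr ((shiftFunctorAdd' (Dual.D A) 1 m (m + 1) (by lia)).app _)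
        (Iso.refl C)).symm.subsingleton)
  have h' : Subsingleton (T.obj₃⟦m⟧ ⟶ C) := h
  rwa [h₃] at h'

include hs hk in
/-- The base change map on morphisms out of translates of torsion modules is bijective. -/
theorem bijective_η (hI : I.FG) (M N : Type u) [AddCommGroup M] [Module A M] [AddCommGroup N]
    [Module A N] (hM : LocCoh.IsPowerTorsion I M) (k : ℤ) :
    Function.Bijective fun f : (Dual.inD A M)⟦k⟧ ⟶ Dual.inD A N => f ≫ η (B := B) (Dual.inD A N) := by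
  obtain ⟨C, π, δ, hT⟩ := distinguished_cocone_triangle (η (B := B) (Dual.inD A N))
  haveI : C.IsGE (-1) := by
    refine DR.Basic.isGE_obj₃ _ hT (-1) (inferInstanceAs ((Dual.inD A N).IsGE 0)) ?_
    exact DR.Basic.isGE_mono (n' := 0) (DR.ExactPush.isGE_map _ (DR.ExactPush.isGE_map _ inferInstance))
      (by lia)
  have hK : ∀ (K : Dual.D A) (n : ℕ), (∀ a ∈ I ^ n, a • 𝟙 K = 0) → (∀ Y, Bij B K Y) →
      ∀ k : ℤ, Subsingleton (K⟦k⟧ ⟶ C) := fun K n hn hb =>
    subsingleton_of_bij hT K (bijective_comp_η hs hk hn hb _)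
  have hall : ∀ (d : ℕ) (n : ℤ), 2 - (d : ℤ) ≤ n → Q I C n := by
    intro d
    induction d with
    | zero =>
      intro n hn M _ _ _
      haveI : ((Dual.inD A M)⟦n⟧).IsLE (-n) :=
        DerivedCategory.TStructure.t.isLE_shift (Dual.inD A M) 0 n (-n) (by lia)
      exact subsingleton_of_forall_eq 0 fun f => DerivedCategory.TStructure.t.zero f (-n) (-1) (by lia)
    | succ d ih =>
      intro n hn
      by_cases h : 2 - (d : ℤ) ≤ n
      · exact ih n h
      · exact Q_step hI hK n fun j hj => ih j (by lia)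
  exact bij_of_subsingleton hT _ k (hall (2 - k).toNat k (by lia) M hM)
    (hall (2 - k).toNat (k + 1) (by lia) M hM)

end Groth.Agent.Lib.TorExt36.Vanish
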